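import Cfsg.Agent.Holt.N0b
import Cfsg.Agent.Holt.Lj

/-! Holt's theorem on transitive groups in which a `2`-central involution fixes one point. -/

namespace CF.Holt
universe u

theorem holt (n : ℕ) : Main.{u} n := main_of (fun _ => ls) n

end CF.Holt
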