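import Cfsg.Agent.Holt.S7b
import Cfsg.Agent.SC2.E
import Cfsg.Agent.Ab2.LYp

/-!
# Holt's theorem, no pairs of type I: the Sylow `2`-subgroups
-/

set_option linter.unusedSectionVars false
set_option autoImplicit false

namespace CF.Holt.S7
open MulAction Subgroup Cfsg CF.BG CF.Bender CF.ZD CF.Ab2 CF.Holt.Zb
open scoped Pointwise commutatorElement

universe u

variable {G Ω : Type u} [Group G] [Finite G] [MulAction G Ω] [Finite Ω] {X : Subgroup G}
  {D : Set G} {𝓕 : Set (Set Ω)} {a c d e g s v w x y z a' c' d' y' : G} {α β γ p q : Ω}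
  {P S S' : Subgroup G}

/-- the seven points -/
abbrev Γ7 (Ω : Type u) [MulAction G Ω] (d c y : G) : Set Ω := Fx Ω (d * c) ∪ Fx Ω (d * y)

theorem H7.notD (h : H7 X D 𝓕) (t : Tri D 𝓕 d y z) : d * y ∉ D := by
  obtain ⟨_, -, -, -, -, e⟩ := h.exV' t
  exact e

theorem H7.exists_d (h : H7 X D 𝓕) (k : P2 P) : ∃ d ∈ D, d ∈ 𝐂 P := by
  obtain ⟨p, hp⟩ := exists_fix h.toCy k
  obtain ⟨d, hd, c, -⟩ := h.cen k hp
  exact ⟨d, hd, c⟩

/-- a frame in a Sylow subgroup with a central member of `D` -/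
structure Fd (D : Set G) (𝓕 : Set (Set Ω)) (S : Subgroup G) (a c y d : G) : Prop
    extends Fr D 𝓕 S a c y where
  hS : Syl 2 S ⊤
  hd : d ∈ D
  dS : d ∈ 𝐂 S

theorem Fr.W (f : Fr D 𝓕 S a c y) (h : H7 X D 𝓕) (hv : v ∈ ZZ D 𝓕) (hw : w ∈ ZZ D 𝓕) (m : v ∈ S)
    (n : w ∈ S) (e : v * w = w * v) (k : Fx Ω w ≠ Fx Ω v) : v = c ∨ v = y ∨ v = c * y := by
  have := f.Fa h
  have := (f.hac h).2
  rcases f.all v hv m with r | r | r | r | r
  · rcases f.all w hw n with u | u | u | u | u <;> simp_all [mul_assoc, f.rl]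
  · rcases f.all w hw n with u | u | u | u | u <;> simp_all [mul_assoc, f.rl]
  all_goals simp [r]

namespace Fd
variable (f : Fd D 𝓕 S a c y d) (h : H7 X D 𝓕)
include f

theorem cm (m : s ∈ S) : s * d = d * s := mem_cent.1 f.dS s m

theorem tri : Tri D 𝓕 d c y :=
  ⟨f.hd, f.hc, f.hy, f.Fy, f.yc.symm, (f.cm f.cS).symm, (f.cm f.yS).symm⟩

include h

theorem dmem : d ∈ S := f.hS.mem_of_norm trivial (cent_le_norm _ f.dS) (iv_e2 (h.iv f.hd))

theorem st (m : s ∈ S) : s ∈ St G (Fx Ω (d * c)) :=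
  St_of_comm (by rw [← mul_assoc, f.cm m, mul_assoc, f.sc h m, mul_assoc])

theorem fixy (m : s ∈ S) (b : β ∈ Fx Ω (d * c)) (b' : β ∈ Fx Ω y) (nb : d • β ≠ β)
    (e : s • β = β) : s * y = y * s := by
  refine mul_inv_eq_iff_eq_mul.1 ((f.sy h m).resolve_right fun k => nb ?_)
  have := congrArg (· • β) k
  simp only [mul_smul, inv_smul_eq_iff.2 e.symm, mem_Fx.1 b', e] at this
  rw [H7.dβ (h.iv f.hd) b, ← this]

theorem fixy' (m : s ∈ S) (e : s ∈ FX G (Fx Ω (d * c))) : s * y = y * s := by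
  obtain ⟨β, b, b', nb⟩ := h.exβ f.tri
  exact f.fixy h m b b' nb (mem_FX.1 e β b)

theorem fixa (m : s ∈ S) (e : s ∈ FX G (Fx Ω (d * c))) : s * a = a * s := by
  obtain ⟨β, b, -, nb⟩ := h.exβ f.tri
  refine mul_inv_eq_iff_eq_mul.1 ((f.sa h m).resolve_right fun k => nb ?_)
  have := congrArg (· • β) k
  simp only [mul_smul, mem_FX.1 (inv_mem e) β b, mem_FX.1 e _ (St_smul (f.st h f.aS) b),
    smul_left_cancel_iff] at this
  rw [H7.dβ (h.iv f.hd) b, ← this]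

theorem centR : S ⊓ FX G (Γ7 Ω d c y) ≤ 𝐂 (RR a c y) := fun s hs => by
  have e : s ∈ FX G (Fx Ω (d * c)) := mem_FX.2 fun p hp => mem_FX.1 hs.2 p (.inl hp)
  exact le_cent1_iff.1 (sup_le (GW.V4_le.2 ⟨mem_cent1.2 (f.fixa h hs.1 e).symm,
    mem_cent1.2 (f.sc h hs.1).symm⟩) (zpowers_le.2 (mem_cent1.2 (f.fixy' h hs.1 e).symm)))

theorem fixW (he : e ∈ D) (m : e ∈ S) (k : e * y = y * e) (hw : w = c ∨ w = y ∨ w = c * y) :
    Fx Ω (e * w) ⊆ Γ7 Ω d c y := by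
  have t : Tri D 𝓕 e c y := ⟨he, f.hc, f.hy, f.Fy, f.yc.symm, f.sc h m, k⟩
  rcases hw with rfl | rfl | rfl
  · rw [← h.same f.tri t (f.cm m)]; exact Set.subset_union_left
  · rw [← h.same f.tri.symm t.symm (f.cm m)]; exact Set.subset_union_right
  · rw [← h.same (h.tmul f.tri).symm (h.tmul t).symm (f.cm m)]; exact h.third f.tri

theorem caseA (f' : Fd D 𝓕 S' a' c' y' d') (m : s ∈ S) (l : S ⊓ 𝐂₁ s ≤ S')
    (e : s ∈ FX G (Γ7 Ω d' c' y')) (k : s * y = y * s) : s ∈ FX G (Γ7 Ω d c y) := by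
  have d1 := l (mi (f.dmem h) (mem_cent1.2 (f.cm m).symm))
  have c1 := l (mi f.cS (mem_cent1.2 (f.sc h m).symm))
  have y1 := l (mi f.yS (mem_cent1.2 k.symm))
  have w1 := f'.W h f.hc f.hy c1 y1 f.yc.symm f.Fy
  have w2 := f'.W h f.hy f.hc y1 c1 f.yc f.Fy.symm
  have aux : ∀ {u}, d * u = u * d → u = y' ∨ u = c' * y' → d * y' = y' * d := by
    rintro u r (rfl | rfl)
    · exact r
    · rwa [← mul_assoc, f'.sc h d1, mul_assoc, mul_assoc, mul_right_inj] at r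
  have k' : d * y' = y' * d := by
    rcases w1 with r | r
    · exact aux f.tri.dz (w2.resolve_left fun u => f.Fy (by rw [u, r]))
    · exact aux f.tri.dy r
  exact mem_FX.2 fun p hp => mem_FX.1 e p
    (hp.elim (f'.fixW h f.hd d1 k' w1 ·) (f'.fixW h f.hd d1 k' w2 ·))

theorem caseB (f' : Fd D 𝓕 S' a' c' y' d') (m : s ∈ S) (l : S ⊓ 𝐂₁ s ≤ S')
    (e : s ∈ FX G (Γ7 Ω d' c' y')) (k : s * a = a * s) : s * y = y * s := by
  have d1 := l (mi (f.dmem h) (mem_cent1.2 (f.cm m).symm))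
  have c1 := l (mi f.cS (mem_cent1.2 (f.sc h m).symm))
  have a1 := l (mi f.aS (mem_cent1.2 k.symm))
  have F : Fx Ω c = Fx Ω c' := by
    by_contra n
    have aux : ∀ {u}, u ∈ ZZ D 𝓕 → u ∈ S' → Fx Ω u = Fx Ω c → u = y' ∨ u = c' * y' :=
      fun hu m r => ((f'.W h hu f'.hc m f'.cS (f'.sc h m) (r ▸ Ne.symm n)).resolve_left
        fun u => n (by rw [← r, u]))
    have := (f.hac h).2
    have := f.ne
    rcases aux f.ha a1 (f.Fa h) with r | r <;> rcases aux f.hc c1 rfl with u | u <;>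
      simp_all [mul_assoc, f'.rl]
  have V : zpowers a ⊔ zpowers c ≤ S' := GW.V4_le.2 ⟨a1, c1⟩
  have m' : c' ∈ zpowers a ⊔ zpowers c :=
    (f.hV.eq_of_le (le_inf V f.hV.le) inf_le_right f'.hS.pi.inf_left).ge
      (mi f'.cS (F ▸ self_QF f'.hc))
  have := h.same' f.hc.2 f.hV f.hd f'.hd (cent_anti (le_sup_left.trans f.RS) f.dS)
    (cent_anti V f'.dS) (f'.cm d1).symm (mem_sup_right (mem_zpowers c)) m' (h.notD f.tri)
    (h.notD f'.tri)
  exact f.fixy' h m (mem_FX.2 fun p hp => mem_FX.1 e p (.inl (this ▸ hp)))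

theorem caseAB (hx : x ∈ S ⊓ FX G (Γ7 Ω d c y)) (m : g * x * g⁻¹ ∈ S)
    (k : g * x * g⁻¹ * a = a * (g * x * g⁻¹) ∨ g * x * g⁻¹ * y = y * (g * x * g⁻¹)) :
    g * x * g⁻¹ ∈ FX G (Γ7 Ω d c y) := by
  have l : RR a c y ⊔ zpowers d ≤ S := sup_le f.RS (zpowers_le.2 (f.dmem h))
  obtain ⟨T, hT, l1⟩ := exists_syl_le (inf_le_right : S ⊓ 𝐂₁ (g * x * g⁻¹) ≤ _) f.hS.pi.inf_left
  obtain ⟨n, hn, l2⟩ := hT.syl_cj_le (K := cj g (RR a c y ⊔ zpowers d)) (by
    rw [← cj_cent1]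
    exact cj_mono g (sup_le (le_cent1_iff.2 (f.centR h hx))
      (zpowers_le.2 (mem_cent1.2 (f.cm hx.1).symm)))) ((f.hS.pi.le l).cj g)
  obtain ⟨S', hS', l3⟩ := exists_syl_le le_top hT.pi
  obtain ⟨d', hd', c'⟩ := h.exists_d hS'.pi
  rw [cj_cj] at l2
  have e : g * x * g⁻¹ = n * g * x * (n * g)⁻¹ := by
    rw [← GW.conj_eq_of_comm (mem_cent1.1 hn)]; group
  generalize n * g = j at *
  have mm : ∀ {u}, u ∈ RR a c y ⊔ zpowers d → j * u * j⁻¹ ∈ S' := fun hu =>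
    l3 (l2 (conj_mem_cj.2 hu))
  have f' : Fd D 𝓕 S' (j * a * j⁻¹) (j * c * j⁻¹) (j * y * j⁻¹) d' :=
    ⟨(f.toFr.cj h j).change h (f.hS.cj_top j) hS' (sup_le (GW.V4_le.2 ⟨mm (mem_sup_left D8.ma),
      mm (mem_sup_left D8.mc)⟩) (zpowers_le.2 (mm (mem_sup_left D8.my)))), hS', hd', c'⟩
  have t : Tri D 𝓕 (j * d * j⁻¹) (j * c * j⁻¹) (j * y * j⁻¹) := ⟨h.conj f.hd j, f'.hc, f'.hy, f'.Fy,
    f'.yc.symm, by simp [f.tri.dy], by simp [f.tri.dz]⟩
  have q := f'.cm (mm (mem_sup_right (mem_zpowers d)))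
  have r : g * x * g⁻¹ ∈ FX G (Γ7 Ω d' (j * c * j⁻¹) (j * y * j⁻¹)) := by
    rw [Γ7, h.same f'.tri t q, h.same f'.tri.symm t.symm q, conj_mul, conj_mul, Fx_conj, Fx_conj,
      ← Set.smul_set_union, ← cj_FX, e]
    exact conj_mem_cj.2 hx.2
  exact f.caseA h f' m (l1.trans l3) r (k.elim (f.caseB h f' m (l1.trans l3) r) id)

theorem closedI : IsStronglyClosed (S ⊓ FX G (Γ7 Ω d c y)) S := by
  refine ⟨inf_le_left, fun x hx g m => ⟨m, ?_⟩⟩
  rcases f.sa h m with e | e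
  · exact f.caseAB h hx m (.inl (mul_inv_eq_iff_eq_mul.1 e))
  rcases f.sy h m with e' | e'
  · exact f.caseAB h hx m (.inr (mul_inv_eq_iff_eq_mul.1 e'))
  have k := f.caseAB h (mul_mem hx hx) (g := g) (by rw [← conj_mul]; exact mul_mem m m)
    (.inl (by rw [← conj_mul]; exact f.sqa h m))
  rw [← conj_mul] at k
  generalize g * x * g⁻¹ = s at *
  obtain ⟨β, b, b', nb⟩ := h.exβ f.tri
  have r := mem_FX.1 k β (.inl b)
  obtain ⟨v, hv, u⟩ := h.reg f.hc.2 f.hV f.hd (cent_anti (le_sup_left.trans f.RS) f.dS)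
    (mem_sup_right (mem_zpowers c)) (h.notD f.tri) b nb (St_smul (f.st h m) b) fun u => nb (by
      rwa [← mul_smul, ← f.cm m, mul_smul, smul_left_cancel_iff] at u)
  have r1 : (c * y * v) • β = v • β := by rw [← e', mul_smul, u, mul_smul, inv_smul_smul, mul_smul, b']
  have r2 : (s * v * s⁻¹ * v) • β = β := by
    rw [mul_smul, u, mul_smul, inv_smul_smul, mul_smul, u, ← mul_smul, r]
  have sc := mul_inv_eq_iff_eq_mul.2 (f.sc h m)
  rw [H7.dβ (h.iv f.hd) b] at nb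
  refine absurd ?_ nb
  rcases f.fp.mem.1 hv with rfl | rfl | rfl | rfl
  · rwa [mul_one, one_smul, mul_smul, b'] at r1
  · rw [e] at r2; simpa [mul_assoc, f.rl] using r2
  · rw [show v * y * v = y by simp [mul_assoc, f.rl], b'] at r1; exact r1.symm
  · rw [← conj_mul, e, sc] at r2; simpa [mul_assoc, f.rl] using r2

theorem I_bot : S ⊓ FX G (Γ7 Ω d c y) = ⊥ := by
  have O : 𝒪 (⊤ : Subgroup G) = ⊥ := eq_bot_of_forall fun x hx => by
    have e := eq_bot_mono h.ns.O (le_O (((O_normal _ _).inf h.nrm).of_le inf_le_right le_top)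
      (O_pi {2}ᶜ ⊤).inf_left)
    refine ((O_pi _ _).elt hx).eq_one (e2_of_sq (eq_one_of_mem_bot e (mi (mul_mem hx hx) ?_))).compl_compl
    rcases h.gen f.hd x with k | k
    · exact mul_mem k k
    · refine mem_of_eq (mul_mem k (h.nrm.conj_mem (g := d) trivial k)) ?_
      rw [mul_assoc d, mul_inv_cancel_right, mul_assoc, ← mul_assoc d, (h.iv f.hd).sq, one_mul]
  obtain ⟨β, b, -, nb⟩ := h.exβ f.tri
  have i : S ⊓ FX G (Γ7 Ω d c y) ⊓ RR a c y = ⊥ := eq_bot_of_forall fun x hx => by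
    have e1 := mem_cent.1 (f.centR h hx.1) a D8.ma
    have e2 := mem_cent.1 (f.centR h hx.1) y D8.my
    have e3 : x ≠ c := fun e => nb (by
      rw [H7.dβ (h.iv f.hd) b, ← e]; exact mem_FX.1 hx.1.2 β (.inl b))
    rcases f.mem hx.2 with r | r | r | r | r | r | r | r <;> simp_all [mul_assoc, f.rl]
  have k := SC2.pf_bot ly O (f.closedI h) (f.closed h f.hS.pi) f.hS
    (fun u hu v hv => (mem_cent.1 (f.centR h hu) v hv).symm) i
  have l : X ≤ normalClosure (RR a c y : Set G) := inf_eq_left.1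
    ((h.ns.eq_or _ ((SC2.ncl_normal _).inf_left le_top)).resolve_left
      (ne_bot_of_mem (mi (yX h.toCx f.hc.1) (le_normalClosure D8.mc)) f.ic.ne))
  refine eq_bot_of_forall fun x hx => ?_
  have c := cent_anti l (k (le_normalClosure hx))
  by_cases m : x ∈ X
  · exact eq_one_of_mem_bot h.ns.center (mi m c)
  refine h.faith x fun p => ?_
  obtain ⟨e, he, -, r⟩ := h.cen (piGrp_bot _) (bot_le : _ ≤ stabilizer G p)
  refine fix_of_comm h.toCx he r ?_
  have := mem_cent.1 c _ ((h.gen he x).resolve_left m)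
  rw [mul_assoc, mul_right_inj] at this
  exact this.symm

theorem dec (m : s ∈ S) : s ∈ RR a c y ∨ s * d ∈ RR a c y := by
  have dV := cent_anti (le_sup_left.trans f.RS) f.dS
  have mc : c ∈ zpowers a ⊔ zpowers c := mem_sup_right (mem_zpowers c)
  obtain ⟨α, ha⟩ := h.ex f.hd
  obtain ⟨β, b, b', nb⟩ := h.exβ f.tri
  obtain ⟨γ, g1, g2, ng⟩ := h.exβ f.tri.symm
  have i := h.iv f.hd
  have s3 : ∀ {s}, s ∈ S → s ∈ FX G (Fx Ω (d * c)) → s • γ = γ → s = 1 := fun {s} m e k =>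
    eq_one_of_mem_bot (f.I_bot h) (mi m (mem_FX.2 fun p hp => by
      rcases hp with hp | hp
      · exact mem_FX.1 e p hp
      rcases h.split f.tri.symm hp with r | r
      · rcases h.three f.tri.symm ha g1 g2 ng hp r with rfl | rfl | rfl
        · exact fix_of_comm h.toCx f.hd ha (f.cm m)
        · exact k
        · rw [← mul_smul, f.cm m, mul_smul, k]
      · refine mem_FX.1 e p ?_
        rw [mem_Fx, show d * c = d * y * (y * c) by simp [mul_assoc, f.rl], mul_smul, r, hp]))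
  have s2 : ∀ {s}, s ∈ S → s • β = β → s * a * s⁻¹ = a → s = 1 ∨ s * d = c := fun {s} m e k => by
    have e' : s ∈ FX G (Fx Ω (d * c)) := mem_FX.2 fun p hp => by
      by_cases np : d • p = p
      · exact fix_of_comm h.toCx f.hd np (f.cm m)
      obtain ⟨v, hv, rfl⟩ := h.reg f.hc.2 f.hV f.hd dV mc (h.notD f.tri) b nb hp np
      rw [← mul_smul, ← mem_cent1.1 (GW.V4_le.2 ⟨mem_cent1.2 (mul_inv_eq_iff_eq_mul.1 k).symm,
        mem_cent1.2 (f.sc h m).symm⟩ hv), mul_smul, e]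
    rcases h.three f.tri.symm ha g1 g2 ng (γ := s • γ) (St_smul (St_of_comm (by
      rw [← mul_assoc, f.cm m, mul_assoc, f.fixy' h m e', mul_assoc])) g1)
      (St_smul (St_of_comm (f.sc h m)) g2) with r | r | r
    · rw [← fix_of_comm h.toCx f.hd ha (f.cm m), smul_left_cancel_iff] at r
      exact absurd (r ▸ ha) ng
    · exact .inl (s3 m e' r)
    · have := s3 (mul_mem m (mul_mem (f.dmem h) f.cS)) (mul_mem e' (mem_FX.2 fun _ => id)) (by
        rw [mul_smul, mul_smul, g2, ← mul_smul, f.cm m, mul_smul, r, ← mul_smul, i.sq, one_smul])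
      rw [← mul_assoc, mul_eq_one_iff_eq_inv, f.ic.inv] at this
      exact .inr this
  have s1 : ∀ {s r}, r ∈ RR a c y → r * s = 1 ∨ r * s * d = c →
      s ∈ RR a c y ∨ s * d ∈ RR a c y := fun {s r} hr e => e.imp
    (fun e => mem_of_eq (inv_mem hr) (eq_inv_of_mul_eq_one_right e)) fun e =>
      mem_of_eq (mul_mem (inv_mem hr) D8.mc) (by rw [← e]; group)
  obtain ⟨v, hv, u⟩ := h.reg f.hc.2 f.hV f.hd dV mc (h.notD f.tri) (St_smul (f.st h m) b)
    (fun u => nb (by rwa [← mul_smul, ← f.cm m, mul_smul, smul_left_cancel_iff] at u)) b nb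
  have hv' := (le_sup_left : _ ≤ RR a c y) hv
  have m' := mul_mem (f.RS hv') m
  rw [← mul_smul] at u
  rcases f.sa h m' with e | e
  · exact s1 hv' (s2 m' u e)
  · refine s1 (mul_mem D8.my hv') (mul_assoc y v s ▸ s2 (mul_mem f.yS m') (by rw [mul_smul, u, b']) ?_)
    rw [mul_inv_rev, ← mul_assoc, mul_assoc y, mul_assoc y, e]
    simp [mul_assoc, f.rl]

end Fd
end CF.Holt.S7
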